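import Cfsg.Agent.H697.Alm.Defs

set_option autoImplicit false
open Cfsg Module

namespace Cfsg.Agent.H311.S4790.LinDisj

open Cfsg.Agent.H697.Alm

universe u v w

variable {F : Type w} {E : Type u} [Field F] [AddCommGroup E] [Module F E]

/-- coefficients in a central simple algebra of a relation between commuting independent elements vanish -/
theorem rel {ι : Type*} [Fintype ι] [DecidableEq ι] (S : Subalgebra F (Module.End F E)) (hS : CSA S)
    (t : ι → Module.End F E) (ht : LinearIndependent F t) (hc : ∀ s ∈ S, ∀ j, s * t j = t j * s)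
    (A : Finset ι) : ∀ s : ι → Module.End F E, (∀ j, s j ∈ S) → (∀ j, j ∉ A → s j = 0) →
      ∑ j, s j * t j = 0 → ∀ j, s j = 0 := by
  induction A using Finset.strongInduction with
  | H A ih =>
    intro s hs hA hsum
    by_contra hne
    push Not at hne
    obtain ⟨j₀, hj₀⟩ := hne
    have hj₀A : j₀ ∈ A := by
      by_contra h
      exact hj₀ (hA j₀ h)
    -- the submodule of possible coefficients at `j₀`
    let M : Submodule F (Module.End F E) :=
      { carrier := {x | ∃ s' : ι → Module.End F E, (∀ j, s' j ∈ S) ∧ (∀ j, j ∉ A → s' j = 0) ∧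
          ∑ j, s' j * t j = 0 ∧ s' j₀ = x}
        add_mem' := by
          rintro a b ⟨s₁, h1, h2, h3, h4⟩ ⟨s₂, k1, k2, k3, k4⟩
          refine ⟨fun j => s₁ j + s₂ j, fun j => S.add_mem (h1 j) (k1 j), fun j hj => ?_, ?_, ?_⟩
          · simp only [h2 j hj, k2 j hj, add_zero]
          · simp only [add_mul, Finset.sum_add_distrib, h3, k3, add_zero]
          · simp only [h4, k4]
        zero_mem' := ⟨fun _ => 0, fun _ => S.zero_mem, fun _ _ => rfl, by simp, rfl⟩
        smul_mem' := by
          rintro c a ⟨s₁, h1, h2, h3, h4⟩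
          refine ⟨fun j => c • s₁ j, fun j => S.smul_mem (h1 j) c, fun j hj => ?_, ?_, ?_⟩
          · simp only [h2 j hj, smul_zero]
          · simp only [smul_mul_assoc, ← Finset.smul_sum, h3, smul_zero]
          · simp only [h4] }
    have h1M : (1 : Module.End F E) ∈ M := by
      have h := hS.smp (s j₀) (hs j₀) hj₀
      have hle : Submodule.span F {y | ∃ l ∈ S, ∃ r ∈ S, y = l * s j₀ * r} ≤ M := by
        rw [Submodule.span_le]
        rintro y ⟨l, hl, r, hr, rfl⟩
        refine ⟨fun j => l * s j * r, fun j => S.mul_mem (S.mul_mem hl (hs j)) hr, fun j hj => ?_, ?_, rfl⟩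
        · simp only [hA j hj, mul_zero, zero_mul]
        · have : ∀ j, l * s j * r * t j = l * (s j * t j) * r := fun j => by
            rw [mul_assoc (l * s j) r (t j), hc r hr j, ← mul_assoc, mul_assoc l (s j) (t j)]
          simp only [this, ← Finset.sum_mul, ← Finset.mul_sum, hsum, mul_zero, zero_mul]
      exact hle h
    obtain ⟨s', h1, h2, h3, h4⟩ := h1M
    -- commutators give a shorter relation
    have hcom : ∀ y ∈ S, ∀ j, y * s' j = s' j * y := by
      intro y hy j
      have := ih (A.erase j₀) (Finset.erase_ssubset hj₀A) (fun j => y * s' j - s' j * y)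
        (fun j => S.sub_mem (S.mul_mem hy (h1 j)) (S.mul_mem (h1 j) hy)) (fun j hj => ?_) ?_ j
      · exact sub_eq_zero.mp this
      · by_cases hj0 : j = j₀
        · subst hj0
          simp only [h4, mul_one, one_mul, sub_self]
        · have : j ∉ A := fun h => hj (Finset.mem_erase.mpr ⟨hj0, h⟩)
          simp only [h2 j this, mul_zero, zero_mul, sub_self]
      · have e1 : ∀ j, (y * s' j - s' j * y) * t j = y * (s' j * t j) - (s' j * t j) * y := fun j => by
          rw [sub_mul, mul_assoc, mul_assoc (s' j) y (t j), hc y hy j, ← mul_assoc (s' j)]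
        simp only [e1, Finset.sum_sub_distrib, ← Finset.mul_sum, ← Finset.sum_mul, h3, mul_zero, zero_mul, sub_self]
    have hsc : ∀ j, ∃ c : F, s' j = c • (1 : Module.End F E) := fun j =>
      hS.cen (s' j) (h1 j) (fun y hy => (hcom y hy j).symm)
    choose c hcs using hsc
    have h5 : ∑ j, c j • t j = 0 := by
      rw [← h3]
      refine Finset.sum_congr rfl fun j _ => ?_
      rw [hcs j, smul_mul_assoc, one_mul]
    have h6 := (Fintype.linearIndependent_iff.mp ht) c h5 j₀
    have h7 : s' j₀ = 0 := by rw [hcs j₀, h6, zero_smul]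
    rw [h4] at h7
    have : s j₀ = 0 := by
      calc s j₀ = s j₀ * 1 := (mul_one _).symm
        _ = 0 := by rw [h7, mul_zero]
    exact hj₀ this

theorem lin_disj [Module.Finite F E]
    (S T : Subalgebra F (Module.End F E)) (hS : CSA S) (hc : ∀ s ∈ S, ∀ t ∈ T, s * t = t * s) :
    finrank F S * finrank F T ≤ finrank F (S ⊔ T : Subalgebra F (Module.End F E)) := by
  classical
  let bS := Module.finBasis F S
  let bT := Module.finBasis F T
  have hT : LinearIndependent F (fun j => ((bT j : T) : Module.End F E)) := by
    have := bT.linearIndependent.map' (Subalgebra.val T).toLinearMap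
      (by rw [LinearMap.ker_eq_bot]; exact Subtype.val_injective)
    exact this
  have hSi : LinearIndependent F (fun j => ((bS j : S) : Module.End F E)) := by
    have := bS.linearIndependent.map' (Subalgebra.val S).toLinearMap
      (by rw [LinearMap.ker_eq_bot]; exact Subtype.val_injective)
    exact this
  let f : Fin (finrank F S) × Fin (finrank F T) → (S ⊔ T : Subalgebra F (Module.End F E)) := fun ij =>
    ⟨(bS ij.1 : Module.End F E) * (bT ij.2 : Module.End F E),
      (S ⊔ T).mul_mem ((le_sup_left : S ≤ S ⊔ T) (bS ij.1).2) ((le_sup_right : T ≤ S ⊔ T) (bT ij.2).2)⟩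
  have hf : LinearIndependent F f := by
    rw [Fintype.linearIndependent_iff]
    intro c hc0 ⟨i, j⟩
    have h0 : ∑ ij : Fin (finrank F S) × Fin (finrank F T),
        c ij • ((bS ij.1 : Module.End F E) * (bT ij.2 : Module.End F E)) = 0 := by
      have := congrArg (Subalgebra.val (S ⊔ T)) hc0
      rw [map_sum, map_zero] at this
      rw [← this]
      rfl
    have h1 : ∑ j, (∑ i, c (i, j) • (bS i : Module.End F E)) * (bT j : Module.End F E) = 0 := by
      rw [← h0, Fintype.sum_prod_type_right]
      refine Finset.sum_congr rfl fun j _ => ?_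
      rw [Finset.sum_mul]
      exact Finset.sum_congr rfl fun i _ => by rw [smul_mul_assoc]
    have h2 := rel S hS _ hT (fun s hs j => hc s hs _ (bT j).2) Finset.univ
      (fun j => ∑ i, c (i, j) • (bS i : Module.End F E))
      (fun j => S.sum_mem fun i _ => S.smul_mem (bS i).2 _) (fun j hj => absurd (Finset.mem_univ j) hj) h1 j
    exact (Fintype.linearIndependent_iff.mp hSi) (fun i => c (i, j)) h2 i
  have := hf.fintype_card_le_finrank
  rwa [Fintype.card_prod, Fintype.card_fin, Fintype.card_fin] at this

end Cfsg.Agent.H311.S4790.LinDisj
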